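import Cfsg.Agent.Lib.ThreeDegrees.Coprime
import Cfsg.Agent.Lib.Char.Extraspecial
import Cfsg.Prelude.Def_DegreeGraph
import Mathlib.Combinatorics.SimpleGraph.Connectivity.Connected

/-!
The degree graph of a solvable group has at most two components.
-/

set_option autoImplicit false
set_option linter.style.haveILetI false

namespace CfsgLib.DegreeGraphSolvable

open Cfsg CfsgLib.Char CfsgLib.PrimeDegrees CfsgLib.ThreeDegrees
open scoped ComplexConjugate CfsgLib.Char commutatorElement

universe u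

variable {G : Type u} [Group G] [Finite G]

theorem mem_charDegrees {χ : G → ℂ} (hχ : IsIrrCharacter G χ) {d : ℕ} (h : χ 1 = d) :
    d ∈ Cfsg.charDegrees G :=
  ⟨⟨χ, hχ⟩, Extraspecial.charDegree_eq h⟩

omit [Finite G] in
theorem eq_or_adj {r t : ℕ} (hr : r.Prime) (ht : t.Prime) {d : ℕ} (hd : d ∈ Cfsg.charDegrees G)
    (hrd : r ∣ d) (htd : t ∣ d) : r = t ∨ (Cfsg.degreeGraph G).Adj r t := by
  by_cases h : r = t
  · exact Or.inl h
  · exact Or.inr ⟨h, hr, ht, d, hd, ((Nat.coprime_primes hr ht).mpr h).mul_dvd_of_dvd_of_dvd hrd htd⟩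

/-- Two primes catch everything within one step. -/
theorem exists_two_centres [Group.IsSolvable G] :
    ∃ s q : ℕ, (s ∈ Cfsg.degreePrimes G ∨ Cfsg.degreePrimes G = ∅) ∧
      ∀ r ∈ Cfsg.degreePrimes G, (r = s ∨ (Cfsg.degreeGraph G).Adj r s) ∨
        (r = q ∨ (Cfsg.degreeGraph G).Adj r q) := by
  classical
  haveI := Fintype.ofFinite G
  by_cases hc : commutator G = ⊥
  · refine ⟨0, 0, Or.inr ?_, fun r hr => ?_⟩
    · rw [Set.eq_empty_iff_forall_notMem]
      rintro r ⟨hr, d, ⟨χ, hχ⟩, hrd⟩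
      have h1 : (χ : G → ℂ) 1 = 1 := (Cfsg.Agent.S0187.result (G := G)).mp (fun a b =>
        commutatorElement_eq_one_iff_mul_comm.mp (Subgroup.mem_bot.mp (hc ▸
          Subgroup.commutator_mem_commutator (Subgroup.mem_top a) (Subgroup.mem_top b)))) χ
      rw [Extraspecial.charDegree_eq (d := 1) (by rw [h1, Nat.cast_one])] at hχ
      subst hχ
      exact hr.not_dvd_one hrd
    · exfalso
      obtain ⟨hr, d, ⟨χ, hχ⟩, hrd⟩ := hr
      have h1 : (χ : G → ℂ) 1 = 1 := (Cfsg.Agent.S0187.result (G := G)).mp (fun a b =>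
        commutatorElement_eq_one_iff_mul_comm.mp (Subgroup.mem_bot.mp (hc ▸
          Subgroup.commutator_mem_commutator (Subgroup.mem_top a) (Subgroup.mem_top b)))) χ
      rw [Extraspecial.charDegree_eq (d := 1) (by rw [h1, Nat.cast_one])] at hχ
      subst hχ
      exact hr.not_dvd_one hrd
  have hperf : ⁅commutator G, commutator G⁆ ≠ commutator G := by
    intro hp
    obtain ⟨n, hn⟩ := Group.IsSolvable.solvable (G := G)
    have hall : ∀ k, 1 ≤ k → derivedSeries G k = commutator G := by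
      intro k hk
      induction k, hk using Nat.le_induction with
      | base => exact derivedSeries_one G
      | succ k _ ih => rw [derivedSeries_succ, ih, hp]
    have h2 := hall (n + 1) (by omega)
    rw [derivedSeries_succ, hn, Subgroup.commutator_bot_left] at h2
    exact hc h2.symm
  obtain ⟨R, ⟨hR, hR2, hRc⟩, hmax⟩ := Set.Finite.exists_maximal
    (s := {K : Subgroup G | K.Normal ∧ ⁅commutator G, commutator G⁆ ≤ K ∧ ¬ commutator G ≤ K})
    (Set.toFinite _) ⟨⁅commutator G, commutator G⁆, inferInstance, le_rfl,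
      fun e => hperf (le_antisymm (Subgroup.commutator_le_left _ _) e)⟩
  haveI := hR
  have hmap : commutator (G ⧸ R) = (commutator G).map (QuotientGroup.mk' R) := by
    rw [commutator_def, commutator_def, Subgroup.map_commutator, ← MonoidHom.range_eq_map,
      MonoidHom.range_eq_top.mpr (QuotientGroup.mk'_surjective R)]
  have hne : commutator (G ⧸ R) ≠ ⊥ := fun e => hRc (by
    rw [hmap, Subgroup.map_eq_bot_iff, QuotientGroup.ker_mk'] at e
    exact e)
  have hab : ∀ a ∈ commutator (G ⧸ R), ∀ b ∈ commutator (G ⧸ R), a * b = b * a := by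
    intro a ha b hb
    rw [hmap] at ha hb
    obtain ⟨a, ha, rfl⟩ := ha
    obtain ⟨b, hb, rfl⟩ := hb
    rw [← commutatorElement_eq_one_iff_mul_comm, ← map_commutatorElement]
    exact (QuotientGroup.eq_one_iff _).mpr (hR2 (Subgroup.commutator_mem_commutator ha hb))
  obtain ⟨q, hq, hQ⟩ := structure_of_minimal hne hab fun M hM hMne => by
    haveI := hM
    have hle : R ≤ M.comap (QuotientGroup.mk' R) := by
      intro x hx
      rw [Subgroup.mem_comap, QuotientGroup.mk'_apply, (QuotientGroup.eq_one_iff x).mpr hx]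
      exact one_mem M
    rw [hmap, Subgroup.map_le_iff_le_comap]
    by_contra hc
    have := le_antisymm hle (hmax ⟨inferInstance, hR2.trans hle, hc⟩ hle)
    exact hMne (Subgroup.comap_injective (QuotientGroup.mk'_surjective R)
      (by rw [← this, MonoidHom.comap_bot, QuotientGroup.ker_mk']))
  haveI := Fact.mk hq
  rcases hQ with hQp | ⟨hNq, hqf, hf1, hsurj⟩
  · -- a nonabelian quotient of prime power order
    obtain ⟨β, hβ⟩ : ∃ β : IrrCharacter (G ⧸ R), (β : G ⧸ R → ℂ) 1 ≠ 1 := by
      by_contra h'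
      push Not at h'
      refine hne (le_bot_iff.mp ?_)
      rw [commutator_def, Subgroup.commutator_le]
      exact fun a _ b _ => Subgroup.mem_bot.mpr
        (commutatorElement_eq_one_iff_mul_comm.mpr ((Cfsg.Agent.S0187.result (G := G ⧸ R)).mpr h' a b))
    obtain ⟨b, hb, -, hbdvd⟩ := exists_degree_dvd_card β.2
    obtain ⟨k, hk⟩ := hQp.exists_card_eq
    have hb1 : b ≠ 1 := fun e => hβ (by rw [hb, e, Nat.cast_one])
    have hqb : q ∣ b := by
      obtain ⟨j, -, rfl⟩ := (Nat.dvd_prime_pow hq).mp (hk ▸ hbdvd)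
      exact dvd_pow_self q fun e => hb1 (by rw [e, pow_zero])
    have hbD : b ∈ Cfsg.charDegrees G := mem_charDegrees
      (isIrrCharacter_comp (f := QuotientGroup.mk' R) (QuotientGroup.mk'_surjective R) β.2)
      (by simpa using hb)
    refine ⟨q, q, Or.inl ⟨hq, b, hbD, hqb⟩, fun r hr => Or.inl ?_⟩
    obtain ⟨hr, d, ⟨χ, hχ⟩, hrd⟩ := hr
    obtain ⟨d', -, hd'⟩ := exists_nat_degree_irr χ.2
    rw [Extraspecial.charDegree_eq hd'] at hχ
    subst hχ
    by_cases hqd : q ∣ d'
    · exact eq_or_adj hr hq (mem_charDegrees χ.2 hd') hrd hqd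
    · have hcop : d'.Coprime R.index := by
        show d'.Coprime (Nat.card (G ⧸ R))
        rw [hk]
        exact ((hq.coprime_iff_not_dvd.mpr hqd).symm).pow_right k
      have hirr := isIrr_mul_inflate R χ.2 (restrict_irr_of_coprime R χ.2 hd' hcop) β.2
      refine eq_or_adj hr hq (mem_charDegrees hirr (d := b * d') ?_) (hrd.trans (dvd_mul_left _ _))
        (hqb.trans (dvd_mul_right _ _))
      rw [Pi.mul_apply, QuotientGroup.mk_one, hb, hd']; push_cast; rfl
  · -- a Frobenius quotient
    set f := (commutator (G ⧸ R)).index with hf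
    set N₀ : Subgroup G := (commutator (G ⧸ R)).comap (QuotientGroup.mk' R) with hN₀
    have hidx : N₀.index = f := Subgroup.index_comap_of_surjective _ (QuotientGroup.mk'_surjective R)
    obtain ⟨s, hs, hsf⟩ := Nat.exists_prime_and_dvd (show f ≠ 1 by omega)
    obtain ⟨χ₀, hχ₀⟩ := exists_induced_degree R q hNq hne hab hsurj
      ⟨fun _ => 1, isIrrCharacter_one⟩ 1 (by simp) (Nat.coprime_one_left q)
    rw [mul_one] at hχ₀
    have hfD : f ∈ Cfsg.charDegrees G := mem_charDegrees χ₀.2 hχ₀
    refine ⟨s, q, Or.inl ⟨hs, f, hfD, hsf⟩, fun r hr => ?_⟩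
    obtain ⟨hr, d, ⟨χ, hχ⟩, hrd⟩ := hr
    obtain ⟨d', hd'0, hd'⟩ := exists_nat_degree_irr χ.2
    rw [Extraspecial.charDegree_eq hd'] at hχ
    subst hχ
    obtain ⟨⟨θ, hθ⟩, hcon⟩ := exists_constituent N₀ (isCharacter_of_isIrr χ.2) (irr_degree_ne_zero χ.2)
    obtain ⟨a, -, ha⟩ := exists_nat_degree_irr hθ
    obtain ⟨e, -, he, ho, hde⟩ := exists_mul_eq_degree N₀ χ.2 hθ hcon hd' ha
    rw [hidx] at he ho
    rw [hde] at hrd
    rcases hr.dvd_mul.mp hrd with h | h
    · exact Or.inl (eq_or_adj hr hs hfD (h.trans he) hsf)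
    rcases hr.dvd_mul.mp h with h | h
    · exact Or.inl (eq_or_adj hr hs hfD (h.trans ho) hsf)
    by_cases hqa : q ∣ a
    · refine Or.inr (eq_or_adj hr hq (mem_charDegrees χ.2 hd') ?_ ?_) <;> rw [hde]
      · exact h.trans (dvd_mul_of_dvd_right (dvd_mul_left _ _) _)
      · exact hqa.trans (dvd_mul_of_dvd_right (dvd_mul_left _ _) _)
    · obtain ⟨χ₁, hχ₁⟩ := exists_induced_degree R q hNq hne hab hsurj ⟨θ, hθ⟩ a ha
        (hq.coprime_iff_not_dvd.mpr hqa).symm
      exact Or.inl (eq_or_adj hr hs (mem_charDegrees χ₁.2 hχ₁) (h.trans (dvd_mul_left _ _))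
        (hsf.trans (dvd_mul_right _ _)))

theorem card_components_le_two [Group.IsSolvable G] :
    Nat.card ((Cfsg.degreeGraph G).induce (Cfsg.degreePrimes G)).ConnectedComponent ≤ 2 := by
  classical
  set H := (Cfsg.degreeGraph G).induce (Cfsg.degreePrimes G)
  obtain ⟨s, q, hs, hcov⟩ := exists_two_centres (G := G)
  rcases hs with hs | hs
  swap
  · haveI : IsEmpty H.ConnectedComponent := ⟨fun c => by
      induction c using SimpleGraph.ConnectedComponent.ind with
      | _ v => exact (Set.eq_empty_iff_forall_notMem.mp hs) v.1 v.2⟩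
    simp
  have hadj : ∀ r t : Cfsg.degreePrimes G, ((r : ℕ) = t ∨ (Cfsg.degreeGraph G).Adj r t) →
      H.connectedComponentMk r = H.connectedComponentMk t := by
    rintro r t (h | h)
    · rw [Subtype.ext h]
    · exact SimpleGraph.ConnectedComponent.eq.mpr (SimpleGraph.Adj.reachable h)
  let f : Fin 2 → H.ConnectedComponent := fun i =>
    if h : i = 1 ∧ q ∈ Cfsg.degreePrimes G then H.connectedComponentMk ⟨q, h.2⟩
    else H.connectedComponentMk ⟨s, hs⟩
  have hf : Function.Surjective f := by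
    intro c
    induction c using SimpleGraph.ConnectedComponent.ind with
    | _ v =>
      rcases hcov v.1 v.2 with h | h
      · refine ⟨0, ?_⟩
        rw [hadj v ⟨s, hs⟩ h]
        simp [f]
      · have hq : q ∈ Cfsg.degreePrimes G := by
          rcases h with h | ⟨-, -, hqp, d, hd, hdv⟩
          · exact h ▸ v.2
          · exact ⟨hqp, d, hd, (dvd_mul_left _ _).trans hdv⟩
        refine ⟨1, ?_⟩
        rw [hadj v ⟨q, hq⟩ h]
        simp [f, hq]
  exact (Nat.card_le_card_of_surjective f hf).trans (by simp)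

end CfsgLib.DegreeGraphSolvable
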